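import Groth.Agent.L15.ModTensor.Basic
import Mathlib.CategoryTheory.Abelian.Refinements
import Mathlib.CategoryTheory.Abelian.GrothendieckAxioms.Basic

/-! Permanence of flatness of sheaves of modules on a site. -/

set_option autoImplicit false

universe u

open CategoryTheory CategoryTheory.Limits Opposite

noncomputable section

namespace Groth.L15.ModTensor

variable {C : Type u} [SmallCategory C] {J : GrothendieckTopology C} {O : Sheaf J CommRingCat.{u}}

theorem hasExactFilteredColimits (O : Sheaf J CommRingCat.{u}) (Λ : Type u) [SmallCategory Λ] [IsFiltered Λ] :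
    HasExactColimitsOfShape Λ (ModSite.Mod O) := by
  haveI := Groth.L10.shMod_isGrothendieckAbelian (ModSite.ringSh O)
  exact AB5OfSize.ofShape Λ

theorem hasExactCoproducts (O : Sheaf J CommRingCat.{u}) (ι : Type u) :
    HasExactColimitsOfShape (Discrete ι) (ModSite.Mod O) := by
  haveI := Groth.L10.shMod_isGrothendieckAbelian (ModSite.ringSh O)
  haveI : HasFiniteBiproducts (ModSite.Mod O) := Abelian.hasFiniteBiproducts
  haveI : AB4OfSize.{u} (ModSite.Mod O) := AB4.of_AB5 _
  exact AB4OfSize.ofShape ι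

theorem isFlat_of_isColimit {K : Type u} [SmallCategory K] [HasColimitsOfShape K (ModSite.Mod O)]
    [HasExactColimitsOfShape K (ModSite.Mod O)]
    (D : K ⥤ ModSite.Mod O) (hD : ∀ k, ModSite.IsFlat (D.obj k)) (c : Cocone D) (hc : IsColimit c) :
    ModSite.IsFlat c.pt := by
  refine (isFlat_iff _).mpr ⟨fun {A B} i _ => ?_⟩
  let τ : D ⋙ tL A ⟶ D ⋙ tL B := Functor.whiskerLeft D ((ModSite.tensorBi O).map i)
  haveI : ∀ k, Mono (τ.app k) := fun k => by
    haveI := (isFlat_iff _).mp (hD k)
    exact inferInstanceAs (Mono ((tR (D.obj k)).map i))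
  haveI : Mono τ := NatTrans.mono_of_mono_app τ
  let hA : IsColimit ((tL A).mapCocone c) := isColimitOfPreserves (tL A) hc
  let hB : IsColimit ((tL B).mapCocone c) := isColimitOfPreserves (tL B) hc
  let eA := hA.coconePointUniqueUpToIso (colimit.isColimit _)
  let eB := hB.coconePointUniqueUpToIso (colimit.isColimit _)
  have h : (tR c.pt).map i = eA.hom ≫ colim.map τ ≫ eB.inv := by
    refine hA.hom_ext fun k => ?_
    have h1 : ((tL A).mapCocone c).ι.app k ≫ eA.hom = colimit.ι (D ⋙ tL A) k :=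
      hA.comp_coconePointUniqueUpToIso_hom _ k
    have h2 : colimit.ι (D ⋙ tL B) k ≫ eB.inv = ((tL B).mapCocone c).ι.app k :=
      hB.comp_coconePointUniqueUpToIso_inv (colimit.isColimit _) k
    rw [reassoc_of% h1, colimit.ι_map_assoc, h2]
    exact ((ModSite.tensorBi O).map i).naturality (c.ι.app k)
  haveI : Mono (colim.map τ) := inferInstance
  rw [h]
  infer_instance

theorem isFlat_cofan {ι : Type u} (F : ι → ModSite.Mod O) (hF : ∀ i, ModSite.IsFlat (F i))
    (c : Cofan F) (hc : IsColimit c) : ModSite.IsFlat c.pt :=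
  haveI := hasExactCoproducts O ι
  isFlat_of_isColimit (Discrete.functor F) (fun k => hF k.as) c hc

theorem isFlat_sigma {ι : Type u} (F : ι → ModSite.Mod O) (hF : ∀ i, ModSite.IsFlat (F i)) :
    ModSite.IsFlat (∐ F) := by
  haveI := Groth.L10.shMod_isGrothendieckAbelian (ModSite.ringSh O)
  exact isFlat_cofan F hF _ (coproductIsCoproduct F)

theorem comm_sq {X Y A B : ModSite.Mod O} (f : X ⟶ Y) (g : A ⟶ B) :
    (tL X).map g ≫ (tR B).map f = (tR A).map f ≫ (tL Y).map g :=
  ((ModSite.tensorBi O).map f).naturality g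

theorem exists_lift_map (F : ModSite.Mod O ⥤ ModSite.Mod O) [F.Additive] [PreservesFiniteColimits F]
    {S : ShortComplex (ModSite.Mod O)} (hS : S.Exact) (hg : Epi S.g) {T : ModSite.Mod O} (x : T ⟶ F.obj S.X₂)
    (hx : x ≫ F.map S.g = 0) :
    ∃ (T' : ModSite.Mod O) (p : T' ⟶ T) (_ : Epi p) (y : T' ⟶ F.obj S.X₁), p ≫ x = y ≫ F.map S.f :=
  (hS.map_of_epi_of_preservesCokernel F hg inferInstance).exact_up_to_refinements x hx

theorem mono_tL_map {X Y : ModSite.Mod O} (A : ModSite.Mod O) (f : X ⟶ Y) [Mono ((tR A).map f)] :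
    Mono ((tL A).map f) := by
  rw [show (tL A).map f = (braidIso A).hom.app X ≫ (tR A).map f ≫ (braidIso A).inv.app Y by
    rw [← NatTrans.naturality_assoc, Iso.hom_inv_id_app, Category.comp_id]]
  infer_instance

section Sequence

variable (S : ShortComplex (ModSite.Mod O)) (hS : S.ShortExact)

include hS in
/-- Tensoring a short exact sequence with flat cokernel gives a monomorphism. -/
theorem mono_map_of_flat (h₃ : ModSite.IsFlat S.X₃) (G : ModSite.Mod O) {P : ModSite.Mod O}
    (π : P ⟶ G) [Epi π] (hP : ModSite.IsFlat P) : Mono ((tR G).map S.f) := by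
  haveI := hS.mono_f
  haveI := hS.epi_g
  haveI := (isFlat_iff P).mp hP
  haveI : (tL S.X₃).PreservesMonomorphisms :=
    haveI := (isFlat_iff S.X₃).mp h₃
    Functor.PreservesMonomorphisms.of_iso (braidIso S.X₃).symm
  rw [Preadditive.mono_iff_cancel_zero]
  intro T a ha
  let K := kernel π
  let ι : K ⟶ P := kernel.ι π
  haveI : Epi ((tL S.X₁).map π) := inferInstance
  obtain ⟨T₁, p₁, _, b, hb⟩ := surjective_up_to_refinements_of_epi ((tL S.X₁).map π) a
  let c₀ := b ≫ (tR P).map S.f
  have hc₀ : c₀ ≫ (tL S.X₂).map π = 0 := by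
    rw [Category.assoc, ← comm_sq, ← Category.assoc, ← hb, Category.assoc, ha, comp_zero]
  obtain ⟨T₂, p₂, _, c, hc⟩ :
      ∃ (T' : ModSite.Mod O) (p : T' ⟶ T₁) (_ : Epi p) (y : T' ⟶ (tL S.X₂).obj K),
        p ≫ c₀ = y ≫ (tL S.X₂).map ι :=
    exists_lift_map (tL S.X₂) (S := ShortComplex.mk ι π (kernel.condition π)) (ShortComplex.exact_kernel π)
      (inferInstanceAs (Epi π)) c₀ hc₀
  have hcg : c ≫ (tR K).map S.g = 0 := by
    haveI : Mono ((tL S.X₃).map ι) := inferInstance
    rw [← cancel_mono ((tL S.X₃).map ι), zero_comp, Category.assoc, ← comm_sq, ← Category.assoc, ← hc,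
      Category.assoc, Category.assoc, ← Functor.map_comp, S.zero, Functor.map_zero, comp_zero, comp_zero]
  obtain ⟨T₃, p₃, _, d, hd⟩ := exists_lift_map (tR K) hS.exact hS.epi_g c hcg
  have hdb : d ≫ (tL S.X₁).map ι = p₃ ≫ p₂ ≫ b := by
    haveI : Mono ((tR P).map S.f) := inferInstance
    rw [← cancel_mono ((tR P).map S.f), Category.assoc, comm_sq, ← Category.assoc, ← hd, Category.assoc,
      ← hc]
    simp only [c₀, Category.assoc]
  have h0 : p₃ ≫ p₂ ≫ p₁ ≫ a = 0 := by
    rw [hb, ← Category.assoc, ← Category.assoc, Category.assoc p₃ p₂ b, ← hdb, Category.assoc,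
      ← Functor.map_comp, kernel.condition, Functor.map_zero, comp_zero]
  simpa only [← cancel_epi p₁, ← cancel_epi p₂, ← cancel_epi p₃, comp_zero] using h0

variable (hres : ∀ G : ModSite.Mod O, ∃ (P : ModSite.Mod O) (π : P ⟶ G), Epi π ∧ ModSite.IsFlat P)

include hS hres in
theorem shortExact_map_of_flat (h₃ : ModSite.IsFlat S.X₃) (G : ModSite.Mod O) :
    (S.map (tR G)).ShortExact := by
  obtain ⟨P, π, hπ, hP⟩ := hres G
  haveI := hS.epi_g
  exact { exact := hS.exact.map_of_epi_of_preservesCokernel (tR G) hS.epi_g inferInstance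
          mono_f := mono_map_of_flat S hS h₃ G π hP
          epi_g := inferInstanceAs (Epi ((tR G).map S.g)) }

include hS hres in
theorem isFlat_mid (h₁ : ModSite.IsFlat S.X₁) (h₃ : ModSite.IsFlat S.X₃) : ModSite.IsFlat S.X₂ := by
  refine (isFlat_iff _).mpr ⟨fun {A B} i _ => ?_⟩
  haveI := (isFlat_iff _).mp h₁
  haveI := (isFlat_iff _).mp h₃
  have hA := shortExact_map_of_flat S hS hres h₃
  rw [Preadditive.mono_iff_cancel_zero]
  intro T a ha
  have h3 : (a ≫ (tL A).map S.g) = 0 := by
    rw [← cancel_mono ((tR S.X₃).map i), zero_comp, Category.assoc, comm_sq, ← Category.assoc, ha, zero_comp]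
  haveI := hS.epi_g
  obtain ⟨T', p, _, c, hc⟩ := exists_lift_map (tL A) hS.exact hS.epi_g a h3
  haveI : Mono ((tL B).map S.f) :=
    haveI : Mono ((tR B).map S.f) := (hA B).mono_f
    mono_tL_map B S.f
  have hc0 : c = 0 := by
    rw [← cancel_mono ((tR S.X₁).map i), ← cancel_mono ((tL B).map S.f), zero_comp, zero_comp,
      Category.assoc, ← comm_sq, ← Category.assoc, ← hc, Category.assoc, ha, comp_zero]
  rw [← cancel_epi p, hc, hc0, zero_comp, comp_zero]

include hS hres in
theorem isFlat_left (h₂ : ModSite.IsFlat S.X₂) (h₃ : ModSite.IsFlat S.X₃) : ModSite.IsFlat S.X₁ := by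
  refine (isFlat_iff _).mpr ⟨fun {A B} i _ => ?_⟩
  haveI := (isFlat_iff _).mp h₂
  haveI : Mono ((tL A).map S.f) :=
    haveI : Mono ((tR A).map S.f) := (shortExact_map_of_flat S hS hres h₃ A).mono_f
    mono_tL_map A S.f
  haveI : Mono ((tR S.X₁).map i ≫ (tL B).map S.f) := by
    rw [← comm_sq]
    infer_instance
  exact mono_of_mono ((tR S.X₁).map i) ((tL B).map S.f)

end Sequence

end Groth.L15.ModTensor
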