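import Groth.Agent.L15.ModTensor.JPAdj
import Groth.Agent.L15.ModTensor.Flat
import Groth.Agent.L15.ExtZero.Exact
import Groth.Agent.L10.FreeOn
import Mathlib.CategoryTheory.Adjunction.Unique

/-! The projection formula for extension by zero, flatness of extensions by zero and of restrictions, and
flat resolutions of sheaves of modules on a site. -/

set_option autoImplicit false

universe u

open CategoryTheory MonoidalCategory CategoryTheory.Limits Opposite

noncomputable section

namespace Groth.L15.ModTensor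

open Groth.L00.ModSiteTensor Groth.L15.ExtZero

variable {C : Type u} [SmallCategory C] {J : GrothendieckTopology C} (O : Sheaf J CommRingCat.{u}) (U : C)

/-- Restriction commutes with the forgetful functor to presheaves of modules. -/
def preRestrIso : preR O ⋙ resP O U ≅ ModSite.restr O U ⋙ preR (O.over U) :=
  NatIso.ofComponents (fun _ => Iso.refl _) fun _ => (Category.comp_id _).trans (Category.id_comp _).symm

/-- Restriction commutes with the forgetful functor. -/
def preFRestrIso : ModSite.restr O U ⋙ preF (O.over U) ≅ preF O ⋙ resP O U :=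
  NatIso.ofComponents (fun _ => Iso.refl _) fun _ => (Category.comp_id _).trans (Category.id_comp _).symm

/-- Extension by zero commutes with sheafification. -/
def extShfIso : shf (O.over U) ⋙ ModSite.extZero O U ≅ jPF O U ⋙ shf O :=
  ((shfAdj (O.over U)).comp (ModSite.extZeroAdj O U)).leftAdjointUniq
    (((pAdj O U).comp (shfAdj O)).ofNatIsoRight (preRestrIso O U))

/-- Sheafification is inverse to forgetting on sheaves. -/
def sheafifyIso : preF O ⋙ shf O ≅ 𝟭 (ModSite.Mod O) :=
  NatIso.ofComponents
    (fun H => @asIso _ _ _ _ ((shfAdj O).counit.app H) (NatIso.isIso_app_of_isIso (shfAdj O).counit H))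
    fun f => (shfAdj O).counit.naturality f

/-- Extension by zero, through presheaves. -/
def extZeroIso : preF (O.over U) ⋙ jPF O U ⋙ shf O ≅ ModSite.extZero O U :=
  Functor.isoWhiskerLeft _ (extShfIso O U).symm ≪≫ (Functor.associator _ _ _).symm ≪≫
    Functor.isoWhiskerRight (sheafifyIso (O.over U)) _ ≪≫ Functor.leftUnitor _

/-- Tensoring on the left with a sheafified presheaf. -/
def tLShfIso (Q : PMo O) : preF O ⋙ tensorLeft Q ⋙ shf O ≅ tL ((shf O).obj Q) :=
  NatIso.ofComponents (fun H => whiskerRightIso Q ((preF O).obj H)) fun {H H'} f => by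
    show (shf O).map (Q ◁ (preF O).map f) ≫ (shf O).map (unit Q ▷ _) =
      (shf O).map (unit Q ▷ _) ≫ (shf O).map (_ ◁ (preF O).map f)
    rw [← Functor.map_comp, ← Functor.map_comp, MonoidalCategory.whisker_exchange]

/-- The projection formula, natural in the module on the base. -/
def projTL (P : ModSite.Mod (O.over U)) :
    ModSite.restr O U ⋙ tL P ⋙ ModSite.extZero O U ≅ tL ((ModSite.extZero O U).obj P) :=
  show (ModSite.restr O U ⋙ preF (O.over U)) ⋙ tensorLeft ((preF (O.over U)).obj P) ⋙
      (shf (O.over U) ⋙ ModSite.extZero O U) ≅ _ from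
    Functor.isoWhiskerRight (preFRestrIso O U) _ ≪≫
      Functor.isoWhiskerLeft (preF O ⋙ resP O U) (Functor.isoWhiskerLeft _ (extShfIso O U)) ≪≫
      (show preF O ⋙ (resP O U ⋙ tensorLeft ((preF (O.over U)).obj P) ⋙ jPF O U) ⋙ shf O ≅ _ from
        Functor.isoWhiskerLeft _ (Functor.isoWhiskerRight (projIsoRight O U _) _) ≪≫ tLShfIso O _ ≪≫
          (ModSite.tensorBi O).mapIso ((extZeroIso O U).app P))

/-- The projection formula, natural in the module on the slice. -/
def projTR (N : ModSite.Mod O) :
    tR ((ModSite.restr O U).obj N) ⋙ ModSite.extZero O U ≅ ModSite.extZero O U ⋙ tR N :=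
  show preF (O.over U) ⋙ tensorRight ((resP O U).obj ((preF O).obj N)) ⋙
      (shf (O.over U) ⋙ ModSite.extZero O U) ≅ _ from
    Functor.isoWhiskerLeft _ (Functor.isoWhiskerLeft _ (extShfIso O U)) ≪≫
      (show preF (O.over U) ⋙ (tensorRight ((resP O U).obj ((preF O).obj N)) ⋙ jPF O U) ⋙ shf O ≅ _ from
        Functor.isoWhiskerLeft _ (Functor.isoWhiskerRight (projIsoLeft O U _) _) ≪≫
          (show preF (O.over U) ⋙ jPF O U ⋙ preTensor N ≅ _ from
            Functor.isoWhiskerLeft _ (Functor.isoWhiskerLeft _ (shfCompIso N).symm)) ≪≫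
          (show (preF (O.over U) ⋙ jPF O U ⋙ shf O) ⋙ tR N ≅ _ from
            Functor.isoWhiskerRight (extZeroIso O U) _))

/-- `j_!O_U ⊗ - = j_!(-|_U)`. -/
def freeOnTensorIso : tL (ModSite.freeOn O U) ≅ ModSite.restr O U ⋙ ModSite.extZero O U :=
  (projTL O U (ModSite.unit (O.over U))).symm ≪≫
    Functor.isoWhiskerLeft _
      (Functor.isoWhiskerRight (braidIso (ModSite.unit (O.over U)) ≪≫ unitIso) _ ≪≫ Functor.leftUnitor _)

theorem isFlat_extZero (P : ModSite.Mod (O.over U)) (hP : ModSite.IsFlat P) :
    ModSite.IsFlat ((ModSite.extZero O U).obj P) := by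
  haveI : (tL P).PreservesMonomorphisms :=
    haveI := (isFlat_iff P).mp hP
    Functor.PreservesMonomorphisms.of_iso (braidIso P).symm
  haveI : (ModSite.restr O U ⋙ tL P ⋙ ModSite.extZero O U).PreservesMonomorphisms := inferInstance
  exact isFlat_of_iso ((braidIso _).symm ≪≫ (projTL O U P).symm)

theorem isFlat_freeOn : ModSite.IsFlat (ModSite.freeOn O U) := isFlat_extZero O U _ isFlat_unit

theorem isFlat_restr (M : ModSite.Mod O) (hM : ModSite.IsFlat M) :
    ModSite.IsFlat ((ModSite.restr O U).obj M) := by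
  haveI := (isFlat_iff M).mp hM
  haveI : (tR ((ModSite.restr O U).obj M) ⋙ ModSite.extZero O U).PreservesMonomorphisms :=
    Functor.PreservesMonomorphisms.of_iso (projTR O U M).symm
  exact (isFlat_iff _).mpr
    (Functor.preservesMonomorphisms_of_preserves_of_reflects _ (ModSite.extZero O U))

theorem exists_flat_cover (G : ModSite.Mod O) :
    ∃ (P : ModSite.Mod O) (π : P ⟶ G), Epi π ∧ ModSite.IsFlat P := by
  haveI := Groth.L10.shMod_isGrothendieckAbelian (ModSite.ringSh O)
  let ι := Σ V : C, ((ModSite.toAb G).obj.obj (op V) : Type u)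
  let π : (∐ fun i : ι => ModSite.freeOn O i.1) ⟶ G :=
    Sigma.desc fun i => (Groth.L10.FreeOn.sec O i.1 G).symm i.2
  refine ⟨_, π, ⟨fun {H} a b h => ?_⟩, isFlat_sigma _ fun i => isFlat_freeOn O i.1⟩
  apply (SheafOfModules.toSheaf.{u} (ModSite.ringSh O)).map_injective
  refine Sheaf.hom_ext (NatTrans.ext (funext fun Z => AddCommGrpCat.hom_ext (AddMonoidHom.ext fun x => ?_)))
  have := congr(Sigma.ι (fun i : ι => ModSite.freeOn O i.1) ⟨Z.unop, x⟩ ≫ $h)
  simp only [π, Sigma.ι_desc_assoc] at this
  have h2 := congrArg (Groth.L10.FreeOn.sec O Z.unop H) this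
  rw [Groth.L10.FreeOn.sec_comp, Groth.L10.FreeOn.sec_comp, Equiv.apply_symm_apply] at h2
  exact h2

end Groth.L15.ModTensor
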