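import Groth.Agent.L15.ModTensor.Projection
import Groth.Agent.L15.ExtSupp.HomZ
import Groth.Agent.L04.SupportSh.Restrict
import Groth.Prelude.Def_ModSite2

/-! Restriction to a slice commutes with internal hom, sections with supports and their derived functors. -/

set_option autoImplicit false

universe u

open CategoryTheory MonoidalCategory CategoryTheory.Limits Opposite

noncomputable section

namespace Groth.L15.ModTensor

section RDer

variable {A B D : Type*} [Category A] [Abelian A] [HasInjectiveResolutions A] [Category B] [Abelian B]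
  [Category D] [Abelian D]

/-- An exact functor commutes with derived functors, naturally. -/
def postcompIso (F : A ⥤ B) [F.Additive] (G : B ⥤ D) [G.Additive] [G.PreservesHomology] (q : ℕ) :
    (F ⋙ G).rightDerived q ≅ F.rightDerived q ⋙ G :=
  NatIso.ofComponents (fun X => Groth.L15.ExtSupp.rightDerivedCompExact F G q X) fun {X Y} f => by
    let g := InjectiveResolution.desc f (injectiveResolution Y) (injectiveResolution X)
    have hg : (injectiveResolution X).ι.f 0 ≫ g.f 0 = f ≫ (injectiveResolution Y).ι.f 0 :=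
      InjectiveResolution.desc_commutes_zero f _ _
    simp only [Groth.L15.ExtSupp.rightDerivedCompExact, Iso.trans_hom, Category.assoc, Functor.mapIso_hom,
      Iso.symm_hom, Functor.comp_map]
    rw [InjectiveResolution.isoRightDerivedObj_hom_naturality_assoc f _ _ g hg (F ⋙ G) q]
    congr 1
    rw [← G.map_comp]
    refine Eq.trans ?_ (congrArg (fun t => _ ≫ G.map t)
      (InjectiveResolution.isoRightDerivedObj_inv_naturality f _ _ g hg F q).symm)
    refine Eq.trans ?_ (congrArg (fun t => _ ≫ t) (G.map_comp _ _)).symm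
    exact ShortComplex.mapHomologyIso_hom_naturality_assoc
      ((HomologicalComplex.shortComplexFunctor B _ q).map ((F.mapHomologicalComplex _).map g)) G _

section Kernel

omit [HasInjectiveResolutions A]

variable (G : A ⥤ B) [G.PreservesZeroMorphisms] {P Q : A} (η : P ⟶ Q) [PreservesLimit (parallelPair η 0) G]
  {Q' : B} (η' : G.obj P ⟶ Q') (h₁ : G.map (kernel.ι η) ≫ η' = 0) (h₂ : kernel.ι η' ≫ G.map η = 0)

/-- Two kernels with the same test objects agree. -/
def kerIso : G.obj (kernel η) ≅ kernel η' where
  hom := kernel.lift _ _ h₁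
  inv := kernel.lift _ _ h₂ ≫ (PreservesKernel.iso G η).inv
  hom_inv_id := by
    rw [← Category.assoc, Iso.comp_inv_eq, Category.id_comp]
    refine (cancel_mono (kernel.ι _)).1 ?_
    rw [Category.assoc, kernel.lift_ι, kernel.lift_ι, PreservesKernel.iso_hom, kernelComparison_comp_ι]
  inv_hom_id := by
    refine (cancel_mono (kernel.ι _)).1 ?_
    rw [Category.assoc, Category.assoc, kernel.lift_ι, Category.id_comp]
    refine Eq.trans ?_ (kernel.lift_ι _ _ h₂)
    congr 1
    rw [Iso.inv_comp_eq, PreservesKernel.iso_hom, kernelComparison_comp_ι]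

theorem kerIso_hom_ι : (kerIso G η η' h₁ h₂).hom ≫ kernel.ι η' = G.map (kernel.ι η) :=
  kernel.lift_ι _ _ h₁

end Kernel

/-- Isomorphic functors have isomorphic derived functors. -/
def rdIso {F G : A ⥤ B} [F.Additive] [G.Additive] (e : F ≅ G) (q : ℕ) : F.rightDerived q ≅ G.rightDerived q where
  hom := NatTrans.rightDerived e.hom q
  inv := NatTrans.rightDerived e.inv q
  hom_inv_id := by rw [← NatTrans.rightDerived_comp, e.hom_inv_id, NatTrans.rightDerived_id]
  inv_hom_id := by rw [← NatTrans.rightDerived_comp, e.inv_hom_id, NatTrans.rightDerived_id]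

end RDer

open Groth.L00.ModSiteTensor Groth.L15.ExtZero

variable {C : Type u} [SmallCategory C] {J : GrothendieckTopology C} (O : Sheaf J CommRingCat.{u}) (X : C)

instance additive_restr : (ModSite.restr O X).Additive := (ModSite.extZeroAdj O X).right_adjoint_additive

/-- Sections as maps out of the free module. -/
def freeSecAdd (H : ModSite.Mod O) : (ModSite.freeOn O X ⟶ H) ≃+ ModSite.sect H X :=
  AddEquiv.mk' (Groth.L10.FreeOn.sec O X H) fun a b =>
    congrArg (fun t => Groth.L10.FreeOn.overSections O X H (((ModSite.restr O X).obj H).unitHomEquiv t))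
      (map_add ((ModSite.extZeroAdj O X).homAddEquiv _ _) a b)

/-- Sections of the internal hom. -/
def sectHomEquiv (M N : ModSite.Mod O) [ModSite.HasSheafHom M] :
    ModSite.sect ((ModSite.sheafHom M).obj N) X ≃+ ((ModSite.restr O X).obj M ⟶ (ModSite.restr O X).obj N) :=
  (freeSecAdd O X _).symm.trans <|
    ((ModSite.sheafHomAdj M).homAddEquiv _ _).symm.trans <|
      (({ toEquiv := ((freeOnTensorIso O X).app M).homCongr (Iso.refl N)
          map_add' := fun a b => by simp [Iso.homCongr] } :
        ((tL (ModSite.freeOn O X)).obj M ⟶ N) ≃+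
          ((ModSite.extZero O X).obj ((ModSite.restr O X).obj M) ⟶ N))).trans <|
        (ModSite.extZeroAdj O X).homAddEquiv _ _

/-- Restriction commutes with the internal hom. -/
def sheafHomRestrIso (M : ModSite.Mod O) [ModSite.HasSheafHom M] [ModSite.HasSheafHom ((ModSite.restr O X).obj M)] :
    ModSite.sheafHom M ⋙ ModSite.restr O X ≅ ModSite.restr O X ⋙ ModSite.sheafHom ((ModSite.restr O X).obj M) :=
  ((ModSite.extZeroAdj O X).comp (ModSite.sheafHomAdj M)).rightAdjointUniq
    (((ModSite.sheafHomAdj ((ModSite.restr O X).obj M)).comp (ModSite.extZeroAdj O X)).ofNatIsoLeft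
      (projTR O X M))

theorem extSh_restr (M : ModSite.Mod O) [ModSite.HasSheafHom M] [ModSite.HasSheafHom ((ModSite.restr O X).obj M)]
    [HasInjectiveResolutions (ModSite.Mod O)] [HasInjectiveResolutions (ModSite.Mod (O.over X))] (q : ℕ) :
    Nonempty (ModSite.extSh M q ⋙ ModSite.restr O X ≅
      ModSite.restr O X ⋙ ModSite.extSh ((ModSite.restr O X).obj M) q) := by
  obtain ⟨e⟩ := Groth.L04.FunctorLES.nonempty_precomp_iso (ModSite.restr O X)
    (ModSite.sheafHom ((ModSite.restr O X).obj M)) q
  exact ⟨(postcompIso (ModSite.sheafHom M) (ModSite.restr O X) q).symm ≪≫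
    rdIso (sheafHomRestrIso O X M) q ≪≫ e⟩

section Supports

variable [HasBinaryProducts C] (U : C)

/-- The trace of `U` on the slice over `X`. -/
abbrev U' : Over X := Over.mk (Limits.prod.snd : U ⨯ X ⟶ X)

variable [ModSite.HasPushOver (O.over X) (U' X U)]

theorem restr_ι_comp_unit (F : ModSite.Mod O) :
    (ModSite.restr O X).map ((ModSite.sectOnι O U).app F) ≫
      (ModSite.restrPushOverAdj (O.over X) (U' X U)).unit.app ((ModSite.restr O X).obj F) = 0 := by
  refine (Groth.L15.ExtSupp.unit_comp_eq_zero_iff (O := O.over X) (U' X U) _).2 ?_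
  have h : (ModSite.restr O U).map ((ModSite.sectOnι O U).app F) = 0 :=
    (Groth.L15.ExtSupp.unit_comp_eq_zero_iff U _).1 (kernel.condition _)
  refine Groth.L15.ExtSupp.restr_map_eq_zero (O := O.over X) (U' X U) _ fun V g x => ?_
  exact Groth.L15.ExtSupp.val_app_eq_zero_of_restr U _ h (V := V.left) (g.left ≫ Limits.prod.fst) x

theorem unit_app_eq_zero (F : ModSite.Mod O) {V : C} (x : F.val.obj (op V))
    (hx : ∀ ⦃W : C⦄ (f : W ⟶ V) (_ : W ⟶ U), F.val.map f.op x = 0) :
    ((ModSite.restrPushOverAdj O U).unit.app F).val.app (op V) x = 0 := by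
  let S : PresheafOfModules.Submodule F.val :=
    { obj := fun Y =>
        { carrier := {y | ∀ ⦃W : C⦄ (f : W ⟶ Y.unop) (_ : W ⟶ U), F.val.map f.op y = 0}
          add_mem' := fun {a b} ha hb W f g => by
            show (F.val.map f.op).hom (a + b) = 0
            erw [map_add, ha f g, hb f g]
            exact add_zero _
          zero_mem' := fun W f g => map_zero (F.val.map f.op).hom
          smul_mem' := fun r a ha W f g => by
            show F.val.map f.op (r • a) = 0
            rw [PresheafOfModules.map_smul, ha f g, smul_zero] }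
      map := fun {Y Z} k y hy W f g => by
        refine Eq.trans ?_ (hy (f ≫ k.unop) g)
        show F.val.map f.op (F.val.map k y) = _
        rw [← PresheafOfModules.map_comp_apply]
        rfl }
  let P : PMo O := S.toPresheafOfModules
  let t : (shf O).obj P ⟶ F := ((shfAdj O).homEquiv P F).symm S.ι
  have ht : Groth.L00.ModSiteTensor.unit P ≫ (preF O).map t = S.ι :=
    ((shfAdj O).homEquiv_unit P F t).symm.trans (Equiv.apply_symm_apply _ _)
  have ht' : ∀ (W : C) (y : P.obj (op W)),
      t.val.app (op W) ((Groth.L00.ModSiteTensor.unit P).app (op W) y) = (y : S.obj (op W)).val :=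
    fun W y => congr(($ht).app (op W) y)
  have h0 : (ModSite.restr O U).map t = 0 :=
    Groth.L15.ExtSupp.restr_eq_zero_of_shf U t fun W g y => by
      refine (ht' W y).trans ?_
      refine Eq.trans ?_ ((y : S.obj (op W)).2 (𝟙 W) g)
      rw [op_id]
      exact ((congr($(F.val.presheaf.map_id (op W)) (y : S.obj (op W)).val))).symm
  have h1 := (Groth.L15.ExtSupp.unit_comp_eq_zero_iff U t).2 h0
  let y : P.obj (op V) := (⟨x, hx⟩ : S.obj (op V))
  have h2 := congr(($h1).val.app (op V) ((Groth.L00.ModSiteTensor.unit P).app (op V) $(rfl (a := y))))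
  exact (congrArg (((ModSite.restrPushOverAdj O U).unit.app F).val.app (op V)) (ht' V y)).symm.trans h2

theorem ι_comp_restr_unit (F : ModSite.Mod O) :
    (ModSite.sectOnι (O.over X) (U' X U)).app ((ModSite.restr O X).obj F) ≫
      (ModSite.restr O X).map ((ModSite.restrPushOverAdj O U).unit.app F) = 0 := by
  let ι := (ModSite.sectOnι (O.over X) (U' X U)).app ((ModSite.restr O X).obj F)
  have h : (ModSite.restr (O.over X) (U' X U)).map ι = 0 :=
    (Groth.L15.ExtSupp.unit_comp_eq_zero_iff (O := O.over X) (U' X U) _).1 (kernel.condition _)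
  refine SheafOfModules.Hom.ext (PresheafOfModules.hom_ext fun T => ModuleCat.hom_ext (LinearMap.ext fun y => ?_))
  show ((ModSite.restrPushOverAdj O U).unit.app F).val.app (op T.unop.left) (ι.val.app T y) = 0
  refine unit_app_eq_zero O U F _ fun W f g => ?_
  let m : Over.mk (f ≫ T.unop.hom) ⟶ T.unop := Over.homMk f
  let gU : Over.mk (f ≫ T.unop.hom) ⟶ U' X U :=
    Over.homMk (Limits.prod.lift g (f ≫ T.unop.hom)) (Limits.prod.lift_snd _ _)
  refine (Groth.L15.ExtSupp.res_natural ι m y).trans ?_
  exact Groth.L15.ExtSupp.val_app_eq_zero_of_restr (U' X U) ι h gU _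

/-- Sections with supports commute with restriction, on objects. -/
def sectOnRestrApp (F : ModSite.Mod O) :
    (ModSite.restr O X).obj ((ModSite.sectOn O U).obj F) ≅
      (ModSite.sectOn (O.over X) (U' X U)).obj ((ModSite.restr O X).obj F) :=
  kerIso (ModSite.restr O X) ((ModSite.restrPushOverAdj O U).unit.app F)
    ((ModSite.restrPushOverAdj (O.over X) (U' X U)).unit.app ((ModSite.restr O X).obj F))
    (restr_ι_comp_unit O X U F) (ι_comp_restr_unit O X U F)

/-- Sections with supports commute with restriction. -/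
def sectOnRestrIso : ModSite.sectOn O U ⋙ ModSite.restr O X ≅
    ModSite.restr O X ⋙ ModSite.sectOn (O.over X) (U' X U) :=
  NatIso.ofComponents (sectOnRestrApp O X U) fun {F G} φ => by
    refine (cancel_mono ((ModSite.sectOnι (O.over X) (U' X U)).app ((ModSite.restr O X).obj G))).1 ?_
    have e₁ : ∀ H : ModSite.Mod O, (sectOnRestrApp O X U H).hom ≫
        (ModSite.sectOnι (O.over X) (U' X U)).app ((ModSite.restr O X).obj H) =
          (ModSite.restr O X).map ((ModSite.sectOnι O U).app H) := fun H => kerIso_hom_ι _ _ _ _ _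
    have e₂ := (ModSite.sectOnι (O.over X) (U' X U)).naturality ((ModSite.restr O X).map φ)
    rw [Category.assoc, Category.assoc, e₁]
    refine Eq.trans ?_ (congrArg ((sectOnRestrApp O X U F).hom ≫ ·) e₂.symm)
    refine Eq.trans ?_ ((congrArg (· ≫ (ModSite.restr O X).map φ) (e₁ F)).symm.trans (Category.assoc _ _ _))
    rw [← Functor.map_comp]
    show (ModSite.restr O X).map ((ModSite.sectOn O U).map φ) ≫ _ = _
    rw [← Functor.map_comp, (ModSite.sectOnι O U).naturality φ]
    rfl

theorem HZsh_restr [HasInjectiveResolutions (ModSite.Mod O)] [HasInjectiveResolutions (ModSite.Mod (O.over X))]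
    (q : ℕ) : Nonempty (ModSite.HZsh O U q ⋙ ModSite.restr O X ≅
      ModSite.restr O X ⋙ ModSite.HZsh (O.over X) (U' X U) q) := by
  obtain ⟨e⟩ := Groth.L04.FunctorLES.nonempty_precomp_iso (ModSite.restr O X)
    (ModSite.sectOn (O.over X) (U' X U)) q
  exact ⟨(postcompIso (ModSite.sectOn O U) (ModSite.restr O X) q).symm ≪≫
    rdIso (sectOnRestrIso O X U) q ≪≫ e⟩

end Supports

end Groth.L15.ModTensor
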