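import Groth.Agent.L00.ModSiteTensor
import Mathlib.CategoryTheory.Adjunction.Additive

/-! Symmetry, associativity and unit of the tensor product of sheaves of modules on a site. -/

set_option autoImplicit false

universe u

open CategoryTheory MonoidalCategory CategoryTheory.Limits Opposite

noncomputable section

namespace Groth.L15.ModTensor

open Groth.L00.ModSiteTensor

variable {C : Type u} [SmallCategory C] {J : GrothendieckTopology C} {O : Sheaf J CommRingCat.{u}}

/-- `G ↦ G ⊗ N`. -/
abbrev tR (N : ModSite.Mod O) : ModSite.Mod O ⥤ ModSite.Mod O := (ModSite.tensorBi O).flip.obj N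

/-- `G ↦ M ⊗ G`. -/
abbrev tL (M : ModSite.Mod O) : ModSite.Mod O ⥤ ModSite.Mod O := (ModSite.tensorBi O).obj M

/-- The tensor product. -/
abbrev ten (M N : ModSite.Mod O) : ModSite.Mod O := ((ModSite.tensorBi O).obj M).obj N

/-- The right adjoint of sheafification. -/
abbrev preR (O : Sheaf J CommRingCat.{u}) : ModSite.Mod O ⥤ PMo O :=
  SheafOfModules.forget (ModSite.ringSh O) ⋙ PresheafOfModules.restrictScalars (𝟙 (ModSite.ringSh O).obj)

/-- Symmetry. -/
def braidIso (M : ModSite.Mod O) : tL M ≅ tR M :=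
  NatIso.ofComponents (fun N => (shf O).mapIso (β_ ((preF O).obj M) ((preF O).obj N))) fun {N N'} f => by
    show (shf O).map ((preF O).obj M ◁ (preF O).map f) ≫ (shf O).map (β_ _ _).hom =
      (shf O).map (β_ _ _).hom ≫ (shf O).map ((preF O).map f ▷ (preF O).obj M)
    rw [← Functor.map_comp, ← Functor.map_comp, BraidedCategory.braiding_naturality_right]

/-- Sheafifying before tensoring on the right. -/
def whiskerLeftIso (P Q : PMo O) :
    (shf O).obj (P ⊗ Q) ≅ (shf O).obj (P ⊗ (preF O).obj ((shf O).obj Q)) :=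
  @asIso _ _ _ _ ((shf O).map (P ◁ unit Q))
    (isIso_shf_map _ (Groth.L00.Tensor.W_whiskerLeft (unit Q) P (idR O) (J.W_toSheafify _)))

/-- Sheafifying before tensoring on the left. -/
def whiskerRightIso (P Q : PMo O) :
    (shf O).obj (P ⊗ Q) ≅ (shf O).obj ((preF O).obj ((shf O).obj P) ⊗ Q) :=
  @asIso _ _ _ _ ((shf O).map (unit P ▷ Q)) (isIso_shf_whisker P Q)

/-- Sheafification is monoidal. -/
def shfTensorIso (P Q : PMo O) :
    (shf O).obj (P ⊗ Q) ≅ ten ((shf O).obj P) ((shf O).obj Q) :=
  whiskerRightIso P Q ≪≫ whiskerLeftIso _ Q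

/-- Tensoring with a sheafified presheaf. -/
def tRShfIso (Q : PMo O) : preF O ⋙ tensorRight Q ⋙ shf O ≅ tR ((shf O).obj Q) :=
  NatIso.ofComponents (fun H => whiskerLeftIso ((preF O).obj H) Q) fun {H H'} f => by
    show (shf O).map ((preF O).map f ▷ Q) ≫ (shf O).map (_ ◁ unit Q) =
      (shf O).map (_ ◁ unit Q) ≫ (shf O).map ((preF O).map f ▷ _)
    rw [← Functor.map_comp, ← Functor.map_comp, MonoidalCategory.whisker_exchange]

/-- Associativity, as functors in the first variable. -/
def assocIso (G F : ModSite.Mod O) : tR G ⋙ tR F ≅ tR (ten G F) :=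
  show (preF O ⋙ tensorRight ((preF O).obj G) ⋙ shf O) ⋙ tR F ≅ _ from
    Functor.associator _ _ _ ≪≫ Functor.isoWhiskerLeft _ (Functor.associator _ _ _) ≪≫
      Functor.isoWhiskerLeft _ (Functor.isoWhiskerLeft _ (shfCompIso F)) ≪≫
      Functor.isoWhiskerLeft _ ((Functor.associator _ _ _).symm ≪≫
        Functor.isoWhiskerRight (MonoidalCategory.tensorRightTensor ((preF O).obj G) ((preF O).obj F)).symm _) ≪≫
      tRShfIso _

/-- The unit of the tensor product. -/
def unitIso : tR (ModSite.unit O) ≅ 𝟭 (ModSite.Mod O) :=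
  NatIso.ofComponents
    (fun H => (shf O).mapIso (ρ_ ((preF O).obj H)) ≪≫ @asIso _ _ _ _ ((shfAdj O).counit.app H) (NatIso.isIso_app_of_isIso (shfAdj O).counit H))
    fun {H H'} f => by
      show (shf O).map ((preF O).map f ▷ _) ≫ (shf O).map (ρ_ _).hom ≫ _ =
        ((shf O).map (ρ_ _).hom ≫ (shfAdj O).counit.app H) ≫ f
      rw [← Functor.map_comp_assoc, MonoidalCategory.rightUnitor_naturality, Functor.map_comp_assoc,
        Category.assoc]
      exact congrArg _ ((shfAdj O).counit.naturality f)

instance isLeftAdjoint_tR (N : ModSite.Mod O) : (tR N).IsLeftAdjoint := hasSheafHom N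

instance additive_tR (N : ModSite.Mod O) : (tR N).Additive :=
  haveI : PreservesFiniteColimits (tR N) :=
    haveI := preservesColimits_tensorRight N
    inferInstance
  haveI := preservesBinaryBiproducts_of_preservesBinaryCoproducts (tR N)
  Functor.additive_of_preservesBinaryBiproducts _

instance isLeftAdjoint_tL (M : ModSite.Mod O) : (tL M).IsLeftAdjoint :=
  Functor.isLeftAdjoint_of_iso (braidIso M).symm

instance additive_tL (M : ModSite.Mod O) : (tL M).Additive :=
  Functor.additive_of_iso (braidIso M).symm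

instance preservesColimits_tR (N : ModSite.Mod O) : PreservesColimitsOfSize.{u, u} (tR N) :=
  preservesColimits_tensorRight N

instance preservesColimits_tL (M : ModSite.Mod O) : PreservesColimitsOfSize.{u, u} (tL M) :=
  preservesColimits_of_natIso (braidIso M).symm

/-- Flatness is preservation of monomorphisms. -/
theorem isFlat_iff (F : ModSite.Mod O) : ModSite.IsFlat F ↔ (tR F).PreservesMonomorphisms := by
  constructor
  · intro h
    haveI := h.1
    infer_instance
  · intro h
    haveI : PreservesFiniteColimits (tR F) := inferInstance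
    haveI : (tR F).PreservesHomology := Functor.preservesHomology_of_preservesMonos_and_cokernels _
    exact ⟨Functor.preservesFiniteLimits_of_preservesHomology _, inferInstance⟩

theorem isFlat_of_iso {F : ModSite.Mod O} {Φ : ModSite.Mod O ⥤ ModSite.Mod O} (e : tR F ≅ Φ)
    [Φ.PreservesMonomorphisms] : ModSite.IsFlat F :=
  (isFlat_iff F).mpr (Functor.PreservesMonomorphisms.of_iso e.symm)

theorem isFlat_congr {F F' : ModSite.Mod O} (e : F ≅ F') (h : ModSite.IsFlat F) : ModSite.IsFlat F' :=
  haveI := (isFlat_iff F).mp h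
  isFlat_of_iso ((ModSite.tensorBi O).flip.mapIso e.symm)

theorem isFlat_unit : ModSite.IsFlat (ModSite.unit O) := isFlat_of_iso unitIso

theorem isFlat_ten (G F : ModSite.Mod O) (hG : ModSite.IsFlat G) (hF : ModSite.IsFlat F) :
    ModSite.IsFlat (ten G F) :=
  haveI := (isFlat_iff G).mp hG
  haveI := (isFlat_iff F).mp hF
  isFlat_of_iso (assocIso G F).symm

end Groth.L15.ModTensor
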