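import Groth.Agent.L15.ModTensor.Restrict
import Groth.Agent.L15.ExtZero.Presheaf
import Mathlib.LinearAlgebra.DirectSum.TensorProduct
import Mathlib.CategoryTheory.Adjunction.Unique

/-! Extension by zero of presheaves of modules is left adjoint to restriction and satisfies the
projection formula. -/

set_option autoImplicit false

universe u

open CategoryTheory MonoidalCategory CategoryTheory.Limits Opposite DirectSum TensorProduct

noncomputable section

namespace Groth.L15.ModTensor

open Groth.L00.ModSiteTensor Groth.L15.ExtZero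

attribute [local instance] Classical.propDecidable

variable {C : Type u} [SmallCategory C] {J : GrothendieckTopology C} (O : Sheaf J CommRingCat.{u}) (U : C)

variable {O U} in
/-- A presheaf of modules on the slice, over the restricted ring. -/
abbrev pv (P : PMo (O.over U)) :
    PresheafOfModules.{u} ((Over.forget U).op ⋙ (O.obj ⋙ forget₂ CommRingCat.{u} RingCat.{u})) := P

/-- Extension by zero, on objects. -/
abbrev jObj' (P : PMo (O.over U)) : PMo O := jP U (pv P)

variable {O U} in
theorem isLin_map {P : PMo (O.over U)} {N : PMo O} (g : P ⟶ (resP O U).obj N) :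
    IsLin U (M := pv P) (N := N) ((PresheafOfModules.toPresheaf _).map g) :=
  fun T r x => map_smul (g.app T).hom r x

/-- The hom equivalence. -/
def jEquiv (P : PMo (O.over U)) (N : PMo O) : (jObj' O U P ⟶ N) ≃ (P ⟶ (resP O U).obj N) where
  toFun k := PresheafOfModules.homMk (M₁ := P) (M₂ := (resP O U).obj N) (unlift U k)
    (fun T r x => unlift_isLin U k T r x)
  invFun g := lift U (M := pv P) (N := N) ((PresheafOfModules.toPresheaf _).map g) (isLin_map g)
  left_inv k := by
    refine PresheafOfModules.hom_ext fun Z => ModuleCat.hom_ext (LinearMap.ext fun x => ?_)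
    induction (x : Tot U (pv P) Z) using DirectSum.induction_on with
    | zero => exact (map_zero _).trans (map_zero _).symm
    | of s x => exact lift_of U _ _ Z s x
    | add x y hx hy => exact (map_add _ _ _).trans ((congrArg₂ (· + ·) hx hy).trans (map_add _ _ _).symm)
  right_inv g := by
    refine PresheafOfModules.hom_ext fun T => ModuleCat.hom_ext (LinearMap.ext fun x => ?_)
    exact lift_of U (M := pv P) _ (isLin_map g) (op T.unop.left) T.unop.hom (x : Fib U (pv P) (op T.unop.left) T.unop.hom)

theorem jEquiv_comp (P : PMo (O.over U)) (N N' : PMo O) (g : N ⟶ N') (h : jObj' O U P ⟶ N) :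
    jEquiv O U P N' (h ≫ g) = jEquiv O U P N h ≫ (resP O U).map g :=
  PresheafOfModules.hom_ext fun _ => ModuleCat.hom_ext (LinearMap.ext fun _ => rfl)

/-- Extension by zero of presheaves of modules. -/
def jPF : PMo (O.over U) ⥤ PMo O :=
  Adjunction.leftAdjointOfEquiv (jEquiv O U) (jEquiv_comp O U)

/-- `jPF ⊣ resP`. -/
def pAdj : jPF O U ⊣ resP O U := Adjunction.adjunctionOfEquivLeft (jEquiv O U) (jEquiv_comp O U)

theorem pAdj_homEquiv_apply (P : PMo (O.over U)) (N : PMo O) (k : jObj' O U P ⟶ N) :
    (pAdj O U).homEquiv P N k = jEquiv O U P N k :=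
  DFunLike.congr_fun (congrFun (congrFun (Adjunction.mkOfHomEquiv_homEquiv _) P) N) k

theorem pAdj_homEquiv_symm_apply (P : PMo (O.over U)) (N : PMo O) (g : P ⟶ (resP O U).obj N) :
    ((pAdj O U).homEquiv P N).symm g = (jEquiv O U P N).symm g := by
  rw [Equiv.symm_apply_eq, pAdj_homEquiv_apply, Equiv.apply_symm_apply]

theorem resTensorIso_natural_left {P P' : PMo O} (f : P ⟶ P') (Q : PMo O) :
    ((resP O U).map f ▷ (resP O U).obj Q) ≫ (resTensorIso O U P' Q).hom =
      (resTensorIso O U P Q).hom ≫ (resP O U).map (f ▷ Q) :=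
  PresheafOfModules.hom_ext fun _ => ModuleCat.MonoidalCategory.tensor_ext fun _ _ => rfl

theorem resTensorIso_natural_right (P : PMo O) {Q Q' : PMo O} (f : Q ⟶ Q') :
    ((resP O U).obj P ◁ (resP O U).map f) ≫ (resTensorIso O U P Q').hom =
      (resTensorIso O U P Q).hom ≫ (resP O U).map (P ◁ f) :=
  PresheafOfModules.hom_ext fun _ => ModuleCat.MonoidalCategory.tensor_ext fun _ _ => rfl

/-- The projection map. -/
def projHom (P : PMo (O.over U)) (N : PMo O) :
    (jPF O U).obj (P ⊗ (resP O U).obj N) ⟶ (jPF O U).obj P ⊗ N :=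
  ((pAdj O U).homEquiv _ _).symm
    (((pAdj O U).unit.app P ▷ (resP O U).obj N) ≫ (resTensorIso O U _ N).hom)

theorem projHom_natural_left {P P' : PMo (O.over U)} (f : P ⟶ P') (N : PMo O) :
    (jPF O U).map (f ▷ (resP O U).obj N) ≫ projHom O U P' N =
      projHom O U P N ≫ ((jPF O U).map f ▷ N) := by
  apply ((pAdj O U).homEquiv _ _).injective
  rw [projHom, projHom, Adjunction.homEquiv_naturality_left, Equiv.apply_symm_apply,
    Adjunction.homEquiv_naturality_right, Equiv.apply_symm_apply, Category.assoc,
    ← resTensorIso_natural_left, ← Category.assoc, ← Category.assoc,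
    ← MonoidalCategory.comp_whiskerRight, ← MonoidalCategory.comp_whiskerRight]
  exact congrArg (fun k => k ▷ (resP O U).obj N ≫ (resTensorIso O U _ N).hom)
    ((pAdj O U).unit.naturality f)

theorem projHom_natural_right (P : PMo (O.over U)) {N N' : PMo O} (g : N ⟶ N') :
    (jPF O U).map (P ◁ (resP O U).map g) ≫ projHom O U P N' =
      projHom O U P N ≫ ((jPF O U).obj P ◁ g) := by
  apply ((pAdj O U).homEquiv _ _).injective
  rw [projHom, projHom, Adjunction.homEquiv_naturality_left, Equiv.apply_symm_apply,
    Adjunction.homEquiv_naturality_right, Equiv.apply_symm_apply, Category.assoc,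
    ← resTensorIso_natural_right, ← Category.assoc, ← Category.assoc, MonoidalCategory.whisker_exchange]
  rfl

instance fibModule' (P : PMo (O.over U)) (Z : Cᵒᵖ) (s : Z.unop ⟶ U) :
    Module (O.obj.obj Z) (P.obj (op (Over.mk s))) :=
  inferInstanceAs (Module (((O.over U).obj ⋙ forget₂ CommRingCat RingCat).obj (op (Over.mk s)))
    (P.obj (op (Over.mk s))))

theorem projHom_app_of (P : PMo (O.over U)) (N : PMo O) (Z : Cᵒᵖ) (s : Z.unop ⟶ U)
    (p : P.obj (op (Over.mk s))) (n : N.obj Z) :
    (projHom O U P N).app Z
        (DirectSum.of (fun t => Fib U (pv (P ⊗ (resP O U).obj N)) Z t) s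
          (p ⊗ₜ[O.obj.obj Z] n) : Tot U (pv (P ⊗ (resP O U).obj N)) Z) =
      (DirectSum.of (fun t => Fib U (pv P) Z t) s p : Tot U (pv P) Z) ⊗ₜ[O.obj.obj Z] n := by
  have h : projHom O U P N =
      (jEquiv O U (P ⊗ (resP O U).obj N) _).symm
        (((pAdj O U).unit.app P ▷ (resP O U).obj N) ≫ (resTensorIso O U _ N).hom) :=
    pAdj_homEquiv_symm_apply O U _ _ _
  have hη : (pAdj O U).unit.app P = jEquiv O U P _ (𝟙 _) := by
    rw [← pAdj_homEquiv_apply, Adjunction.homEquiv_unit]
    exact (Category.comp_id _).symm.trans (congrArg _ ((resP O U).map_id _).symm)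
  rw [h, hη]
  exact lift_of U _ (isLin_map _) Z s _

theorem bijective_projHom_app (P : PMo (O.over U)) (N : PMo O) (Z : Cᵒᵖ) :
    Function.Bijective ((projHom O U P N).app Z) := by
  letI : ∀ t : Z.unop ⟶ U, Module (O.obj.obj Z) (Fib U (pv P) Z t) := fun t =>
    inferInstanceAs (Module ((O.obj ⋙ forget₂ CommRingCat RingCat).obj Z) (Fib U (pv P) Z t))
  let e := (TensorProduct.directSumLeft (O.obj.obj Z) (O.obj.obj Z)
    (fun t => Fib U (pv P) Z t) (N.obj Z)).symm
  have key : ∀ x : Tot U (pv (P ⊗ (resP O U).obj N)) Z, (projHom O U P N).app Z x = e x := by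
    intro x
    induction x using DirectSum.induction_on with
    | zero => exact (map_zero _).trans (map_zero e).symm
    | of s x =>
      induction x using TensorProduct.induction_on with
      | zero =>
        erw [map_zero]
        exact (map_zero _).trans (map_zero e).symm
      | tmul p n =>
        refine (projHom_app_of O U P N Z s p n).trans ?_
        exact (TensorProduct.directSumLeft_symm_lof_tmul (R := O.obj.obj Z) (S := O.obj.obj Z)
          (M₁ := fun t => Fib U (pv P) Z t) (M₂' := N.obj Z) s p n).symm
      | add a b ha hb =>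
        erw [map_add]
        exact (map_add _ _ _).trans ((congrArg₂ (· + ·) ha hb).trans (map_add e _ _).symm)
    | add x y hx hy => exact (map_add _ _ _).trans ((congrArg₂ (· + ·) hx hy).trans (map_add e _ _).symm)
  have : ⇑((projHom O U P N).app Z) = (⇑e : _ → _) := funext key
  rw [this]
  exact e.bijective

instance isIso_projHom (P : PMo (O.over U)) (N : PMo O) : IsIso (projHom O U P N) := by
  haveI : ∀ Z, IsIso (((PresheafOfModules.toPresheaf _).map (projHom O U P N)).app Z) := fun Z =>
    (ConcreteCategory.isIso_iff_bijective _).mpr (bijective_projHom_app O U P N Z)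
  haveI : IsIso ((PresheafOfModules.toPresheaf _).map (projHom O U P N)) := NatIso.isIso_of_isIso_app _
  exact isIso_of_reflects_iso _ (PresheafOfModules.toPresheaf _)

/-- The projection formula, natural in the module on the slice. -/
def projIsoLeft (N : PMo O) :
    tensorRight ((resP O U).obj N) ⋙ jPF O U ≅ jPF O U ⋙ tensorRight N :=
  NatIso.ofComponents (fun P => asIso (projHom O U P N)) fun f => projHom_natural_left O U f N

/-- The projection formula, natural in the module on the base. -/
def projIsoRight (P : PMo (O.over U)) :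
    resP O U ⋙ tensorLeft P ⋙ jPF O U ≅ tensorLeft ((jPF O U).obj P) :=
  NatIso.ofComponents (fun N => asIso (projHom O U P N)) fun g => projHom_natural_right O U P g

end Groth.L15.ModTensor
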