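import Groth.Agent.L15.ModTensor.Basic
import Mathlib.Algebra.Category.ModuleCat.Presheaf.Pushforward
import Mathlib.CategoryTheory.Sites.Over

/-! Restriction to a slice commutes with sheafification and tensor products. -/

set_option autoImplicit false

universe u

open CategoryTheory MonoidalCategory CategoryTheory.Limits Opposite

noncomputable section

namespace Groth.L15.ModTensor

open Groth.L00.ModSiteTensor

variable {C : Type u} [SmallCategory C] {J : GrothendieckTopology C} (O : Sheaf J CommRingCat.{u}) (U : C)

/-- Restriction of presheaves of modules to a slice. -/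
def resP : PMo O ⥤ PMo (O.over U) :=
  PresheafOfModules.pushforward₀OfCommRingCat.{u} (Over.forget U) O.obj

variable {O} {U}

theorem W_whisker_forget {F G : Cᵒᵖ ⥤ AddCommGrpCat.{u}} (f : F ⟶ G) (hf : J.W f) :
    (J.over U).W (Functor.whiskerLeft (Over.forget U).op f) := by
  rw [GrothendieckTopology.W_iff_isLocallyBijective] at hf ⊢
  obtain ⟨_, _⟩ := hf
  refine ⟨⟨fun {X} x y h => ?_⟩, ⟨fun {X} s => ?_⟩⟩
  · exact (J.over U).superset_covering (fun W m hm => hm)
      (J.overEquiv_symm_mem_over X.unop _ (Presheaf.equalizerSieve_mem J f (X := op X.unop.left) x y h))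
  · exact (J.over U).superset_covering (fun W m hm => hm)
      (J.overEquiv_symm_mem_over X _ (Presheaf.imageSieve_mem J f (U := op X.left) s))

variable (O) (U)

/-- The restricted unit of sheafification. -/
abbrev resUnit (P : PMo O) : (resP O U).obj P ⟶ (preF (O.over U)).obj ((ModSite.restr O U).obj ((shf O).obj P)) :=
  (resP O U).map (unit P)

theorem isIso_shf_resUnit (P : PMo O) : IsIso ((shf (O.over U)).map (resUnit O U P)) :=
  isIso_shf_map _ (W_whisker_forget ((PresheafOfModules.toPresheaf _).map (unit P)) (J.W_toSheafify _))

/-- The components of `restrShfIso`. -/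
def restrShfApp (P : PMo O) :
    (shf (O.over U)).obj ((resP O U).obj P) ≅ (ModSite.restr O U).obj ((shf O).obj P) :=
  @asIso _ _ _ _ ((shf (O.over U)).map (resUnit O U P)) (isIso_shf_resUnit O U P) ≪≫
    @asIso _ _ _ _ ((shfAdj (O.over U)).counit.app ((ModSite.restr O U).obj ((shf O).obj P)))
      (NatIso.isIso_app_of_isIso (shfAdj (O.over U)).counit _)

theorem resUnit_natural {P Q : PMo O} (f : P ⟶ Q) :
    (resP O U).map f ≫ resUnit O U Q =
      resUnit O U P ≫ (preF (O.over U)).map ((ModSite.restr O U).map ((shf O).map f)) := by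
  show (resP O U).map f ≫ (resP O U).map (unit Q) =
    (resP O U).map (unit P) ≫ (resP O U).map ((preF O).map ((shf O).map f))
  have h : f ≫ unit Q = unit P ≫ (preF O).map ((shf O).map f) :=
    (PresheafOfModules.sheafificationAdjunction (𝟙 (ModSite.ringSh O).obj)).unit.naturality f
  rw [← Functor.map_comp, ← Functor.map_comp, h]

/-- Sheafification commutes with restriction. -/
def restrShfIso : resP O U ⋙ shf (O.over U) ≅ shf O ⋙ ModSite.restr O U :=
  NatIso.ofComponents (restrShfApp O U) fun {P Q} f => by
    show (shf (O.over U)).map ((resP O U).map f) ≫ (shf (O.over U)).map (resUnit O U Q) ≫ _ =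
      ((shf (O.over U)).map (resUnit O U P) ≫ (shfAdj (O.over U)).counit.app _) ≫
        (ModSite.restr O U).map ((shf O).map f)
    rw [← Functor.map_comp_assoc, resUnit_natural, Functor.map_comp_assoc, Category.assoc]
    exact congrArg _ ((shfAdj (O.over U)).counit.naturality ((ModSite.restr O U).map ((shf O).map f)))

/-- Restriction commutes with tensor products of presheaves. -/
def resTensorIso (P Q : PMo O) :
    (resP O U).obj P ⊗ (resP O U).obj Q ≅ (resP O U).obj (P ⊗ Q) :=
  PresheafOfModules.isoMk (fun _ => Iso.refl _) fun _ _ _ =>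
    ModuleCat.MonoidalCategory.tensor_ext fun _ _ => rfl

/-- Restriction commutes with tensor products (natural in the first variable). -/
def restrTensorIso (N : ModSite.Mod O) :
    ModSite.restr O U ⋙ tR ((ModSite.restr O U).obj N) ≅ tR N ⋙ ModSite.restr O U :=
  NatIso.ofComponents
    (fun M => (shf (O.over U)).mapIso (resTensorIso O U ((preF O).obj M) ((preF O).obj N)) ≪≫
      (restrShfIso O U).app _)
    fun {M M'} f => by
      show (shf (O.over U)).map ((resP O U).map ((preF O).map f) ▷ (resP O U).obj ((preF O).obj N)) ≫
          (shf (O.over U)).map (resTensorIso O U _ _).hom ≫ (restrShfIso O U).hom.app _ =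
        ((shf (O.over U)).map (resTensorIso O U _ _).hom ≫ (restrShfIso O U).hom.app _) ≫
          (ModSite.restr O U).map ((shf O).map ((preF O).map f ▷ (preF O).obj N))
      rw [← Functor.map_comp_assoc, Category.assoc]
      have h : ((resP O U).map ((preF O).map f) ▷ (resP O U).obj ((preF O).obj N)) ≫
          (resTensorIso O U ((preF O).obj M') ((preF O).obj N)).hom =
          (resTensorIso O U ((preF O).obj M) ((preF O).obj N)).hom ≫
            (resP O U).map ((preF O).map f ▷ (preF O).obj N) := by
        refine PresheafOfModules.hom_ext fun T => ModuleCat.MonoidalCategory.tensor_ext fun _ _ => ?_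
        rfl
      rw [h, Functor.map_comp_assoc]
      exact congrArg _ ((restrShfIso O U).hom.naturality ((preF O).map f ▷ (preF O).obj N))

end Groth.L15.ModTensor
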